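import Mathlib
import Cfsg.Agent.Lib.Helper5.Symplectic

/-!
# Project SPW (helper39): minimal degree of `Sp_{2n}(q)`, `q` odd, and the Weil representation (S2347) — definitions

* `Fn n F` : the space of complex functions on `F^n` (dimension `q^n`);
* `phase v x`, `weyl ψ v` : the Weyl (Heisenberg) operator of `v = (a, b) ∈ F^n ⊕ F^n` (`a = v ∘ Sum.inl`,
  `b = v ∘ Sum.inr`): `(weyl ψ v f) x = ψ (a ⬝ x + a ⬝ b / 2) * f (x + b)`; they satisfy
  `weyl ψ v * weyl ψ w = ψ (sympForm v w / 2) • weyl ψ (v + w)` (`sympForm` of helper5);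
* `par` : the parity operator `f ↦ f (-·)`; `oddFn n F` : the odd functions;
* `Intw ψ g` : the invertible operators `T` with `T * weyl ψ v = weyl ψ (g v) * T` for all `v`.
-/

set_option autoImplicit false

namespace Cfsg.Agent.Lib.Helper39.SPW

open Matrix

variable {F : Type*} [Field F] {n : ℕ}

/-- the space of complex functions on `F^n` -/
abbrev Fn (n : ℕ) (F : Type*) : Type _ := (Fin n → F) → ℂ

/-- the phase of the Weyl operator of `v = (a, b)`: `a ⬝ x + a ⬝ b / 2` -/
def phase (v : Fin n ⊕ Fin n → F) (x : Fin n → F) : F :=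
  (v ∘ Sum.inl) ⬝ᵥ x + 2⁻¹ * ((v ∘ Sum.inl) ⬝ᵥ (v ∘ Sum.inr))

/-- the Weyl operator of `v = (a, b)`: `(weyl ψ v f) x = ψ (a ⬝ x + a ⬝ b / 2) * f (x + b)` -/
noncomputable def weyl (ψ : AddChar F ℂ) (v : Fin n ⊕ Fin n → F) : Module.End ℂ (Fn n F) where
  toFun f := fun x => ψ (phase v x) * f (x + v ∘ Sum.inr)
  map_add' f g := by
    funext x
    simp only [Pi.add_apply, mul_add]
  map_smul' c f := by
    funext x
    simp only [Pi.smul_apply, smul_eq_mul, RingHom.id_apply]
    ring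

@[simp] theorem weyl_apply (ψ : AddChar F ℂ) (v : Fin n ⊕ Fin n → F) (f : Fn n F) (x : Fin n → F) :
    weyl ψ v f x = ψ (phase v x) * f (x + v ∘ Sum.inr) := rfl

/-- the parity operator -/
def par : Module.End ℂ (Fn n F) where
  toFun f := fun x => f (-x)
  map_add' f g := by
    funext x
    rfl
  map_smul' c f := by
    funext x
    rfl

@[simp] theorem par_apply (f : Fn n F) (x : Fin n → F) : (par f : Fn n F) x = f (-x) := rfl

/-- the odd functions -/
def oddFn (n : ℕ) (F : Type*) [Field F] : Submodule ℂ (Fn n F) where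
  carrier := {f | ∀ x, f (-x) = - f x}
  add_mem' := by
    intro f g hf hg x
    show f (-x) + g (-x) = -(f x + g x)
    rw [hf x, hg x]
    ring
  zero_mem' := by
    intro x
    show (0 : ℂ) = -0
    rw [neg_zero]
  smul_mem' := by
    intro c f hf x
    show c * f (-x) = -(c * f x)
    rw [hf x]
    ring

theorem mem_oddFn (f : Fn n F) : f ∈ oddFn n F ↔ ∀ x, f (-x) = - f x := Iff.rfl

theorem mem_oddFn_iff_par (f : Fn n F) : f ∈ oddFn n F ↔ par f = -f := by
  rw [mem_oddFn]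
  constructor
  · intro h
    funext x
    exact h x
  · intro h x
    exact congrFun h x

/-- the intertwiners of `g`: invertible `T` with `T * weyl ψ v = weyl ψ (g v) * T` for all `v` -/
def Intw (ψ : AddChar F ℂ) (g : Matrix.symplecticGroup (Fin n) F) : Set (Module.End ℂ (Fn n F)) :=
  {T | IsUnit T ∧ ∀ v : Fin n ⊕ Fin n → F,
    T * weyl ψ v = weyl ψ ((g : Matrix (Fin n ⊕ Fin n) (Fin n ⊕ Fin n) F) *ᵥ v) * T}

theorem mem_Intw (ψ : AddChar F ℂ) (g : Matrix.symplecticGroup (Fin n) F) (T : Module.End ℂ (Fn n F)) :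
    T ∈ Intw ψ g ↔ IsUnit T ∧ ∀ v : Fin n ⊕ Fin n → F,
      T * weyl ψ v = weyl ψ ((g : Matrix (Fin n ⊕ Fin n) (Fin n ⊕ Fin n) F) *ᵥ v) * T := Iff.rfl

end Cfsg.Agent.Lib.Helper39.SPW
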