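import Mathlib
import Cfsg.Agent.Lib.Helper39.SPW.Defs

set_option autoImplicit false

namespace Cfsg.Agent.Lib.Helper39.SPW

open Matrix Module Cfsg.Agent.Lib.Helper5

variable {F : Type*} [Field F] [Fintype F] {n : ℕ}

/-- **[W-REL]** -/
theorem weyl_zero (ψ : AddChar F ℂ) : weyl ψ (0 : Fin n ⊕ Fin n → F) = 1 := by
  apply LinearMap.ext
  intro f
  funext x
  simp [phase]

theorem sympForm_eq_dot (v w : Fin n ⊕ Fin n → F) :
    sympForm (Fin n) F v w = (v ∘ Sum.inr) ⬝ᵥ (w ∘ Sum.inl) - (v ∘ Sum.inl) ⬝ᵥ (w ∘ Sum.inr) := by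
  rw [sympForm_eq_sum, Finset.sum_sub_distrib]
  rfl

/-- **[W-REL]** the Heisenberg commutation relation -/
theorem weyl_mul (h2 : (2 : F) ≠ 0) (ψ : AddChar F ℂ) (v w : Fin n ⊕ Fin n → F) :
    weyl ψ v * weyl ψ w = ψ (2⁻¹ * sympForm (Fin n) F v w) • weyl ψ (v + w) := by
  apply LinearMap.ext
  intro f
  funext x
  simp only [Module.End.mul_apply, weyl_apply, LinearMap.smul_apply, Pi.smul_apply, smul_eq_mul]
  have harg : x + v ∘ Sum.inr + w ∘ Sum.inr = x + (v + w) ∘ Sum.inr := by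
    funext i; simp [add_assoc]
  rw [harg, ← mul_assoc, ← mul_assoc, ← AddChar.map_add_eq_mul, ← AddChar.map_add_eq_mul]
  congr 2
  rw [sympForm_eq_dot]
  simp only [phase]
  have e1 : (v + w) ∘ Sum.inl = v ∘ Sum.inl + w ∘ Sum.inl := rfl
  have e2 : (v + w) ∘ Sum.inr = v ∘ Sum.inr + w ∘ Sum.inr := rfl
  rw [e1, e2]
  simp only [add_dotProduct, dotProduct_add]
  have hc : (w ∘ Sum.inl) ⬝ᵥ (v ∘ Sum.inr) = (v ∘ Sum.inr) ⬝ᵥ (w ∘ Sum.inl) := dotProduct_comm _ _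
  rw [hc]
  field_simp
  ring

/-- **[W-REL]** parity conjugates `weyl ψ v` to `weyl ψ (-v)` -/
theorem par_mul_weyl (ψ : AddChar F ℂ) (v : Fin n ⊕ Fin n → F) :
    (par : Module.End ℂ (Fn n F)) * weyl ψ v = weyl ψ (-v) * par := by
  apply LinearMap.ext
  intro f
  funext x
  simp only [Module.End.mul_apply, weyl_apply, par_apply]
  have e1 : phase v (-x) = phase (-v) x := by
    simp only [phase]
    have : (-v) ∘ Sum.inl = -(v ∘ Sum.inl) := rfl
    have h' : (-v) ∘ Sum.inr = -(v ∘ Sum.inr) := rfl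
    rw [this, h']
    simp
  have e2 : -x + v ∘ Sum.inr = -(x + (-v) ∘ Sum.inr) := by
    funext i; simp; ring
  rw [e1, e2]

/-- **[W-REL]** -/
theorem par_mul_par : (par : Module.End ℂ (Fn n F)) * par = 1 := by
  apply LinearMap.ext
  intro f
  funext x
  simp

end Cfsg.Agent.Lib.Helper39.SPW
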