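import Mathlib
import Cfsg.Agent.Lib.Helper39.SPW.Defs

/-!
# Project SPW, module [W-TR] (helper39): traces of the Weyl operators and of the parity operator
-/

set_option autoImplicit false

namespace Cfsg.Agent.Lib.Helper39.SPW

open Matrix Module Cfsg.Agent.Lib.Helper5

namespace WTr

variable {F : Type*} [Field F] [Fintype F] {n : ℕ}

/-- trace of an operator on the function space as a sum of diagonal coefficients -/
theorem trace_eq_sum [DecidableEq F] (T : Module.End ℂ (Fn n F)) :
    LinearMap.trace ℂ (Fn n F) T = ∑ x : Fin n → F, T (Pi.single x 1) x := by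
  rw [LinearMap.trace_eq_matrix_trace ℂ (Pi.basisFun ℂ (Fin n → F)) T, Matrix.trace]
  refine Finset.sum_congr rfl fun x _ => ?_
  rw [Matrix.diag_apply, LinearMap.toMatrix_apply, Pi.basisFun_apply, Pi.basisFun_repr]

/-- a non-trivial character of `F^n` -/
theorem sum_dot_eq_zero (ψ : AddChar F ℂ) (hψ : ψ ≠ 1) (a : Fin n → F) (ha : a ≠ 0) :
    ∑ x : Fin n → F, ψ (a ⬝ᵥ x) = 0 := by
  classical
  let χ : AddChar (Fin n → F) ℂ :=
    ψ.compAddMonoidHom
      { toFun := fun x => a ⬝ᵥ x
        map_zero' := dotProduct_zero a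
        map_add' := fun x y => dotProduct_add a x y }
  have hχ : χ ≠ 1 := by
    intro h1
    obtain ⟨i, hi⟩ : ∃ i, a i ≠ 0 := by
      by_contra hcon
      push Not at hcon
      exact ha (funext hcon)
    apply hψ
    ext t
    have := DFunLike.congr_fun h1 (Pi.single i ((a i)⁻¹ * t))
    have e : a ⬝ᵥ Pi.single i ((a i)⁻¹ * t) = t := by
      rw [dotProduct_single, ← mul_assoc, mul_inv_cancel₀ hi, one_mul]
    simpa [χ, e] using this
  exact AddChar.sum_eq_zero_of_ne_one hχ

end WTr

variable {F : Type*} [Field F] [Fintype F] {n : ℕ}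

/-- **[W-TR]** the Weyl operators of non-zero vectors have trace zero -/
theorem trace_weyl (ψ : AddChar F ℂ) (hψ : ψ ≠ 1) (v : Fin n ⊕ Fin n → F) (hv : v ≠ 0) :
    LinearMap.trace ℂ (Fn n F) (weyl ψ v) = 0 := by
  classical
  rw [WTr.trace_eq_sum]
  by_cases hb : v ∘ Sum.inr = 0
  · -- `b = 0`, so `a ≠ 0`
    have ha : v ∘ Sum.inl ≠ 0 := by
      intro ha
      apply hv
      funext i
      rcases i with i | i
      · exact congrFun ha i
      · exact congrFun hb i
    have : ∀ x : Fin n → F, weyl ψ v (Pi.single x 1) x = ψ ((v ∘ Sum.inl) ⬝ᵥ x) := by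
      intro x
      rw [weyl_apply, hb, add_zero, Pi.single_eq_same, mul_one]
      simp [phase, hb]
    simp_rw [this]
    exact WTr.sum_dot_eq_zero ψ hψ _ ha
  · -- `b ≠ 0`: no diagonal entries
    refine Finset.sum_eq_zero fun x _ => ?_
    rw [weyl_apply]
    have hne : x + v ∘ Sum.inr ≠ x := by
      intro h
      exact hb (add_left_cancel (a := x) (by rw [h, add_zero]))
    rw [Pi.single_eq_of_ne hne, mul_zero]

/-- **[W-TR]** the parity operator has trace one -/
theorem trace_par (h2 : (2 : F) ≠ 0) :
    LinearMap.trace ℂ (Fn n F) (par : Module.End ℂ (Fn n F)) = 1 := by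
  classical
  rw [WTr.trace_eq_sum]
  rw [Finset.sum_eq_single (0 : Fin n → F)]
  · rw [par_apply, neg_zero, Pi.single_eq_same]
  · intro x _ hx
    rw [par_apply]
    have hne : -x ≠ x := by
      intro h
      apply hx
      funext i
      have hi := congrFun h i
      have : (2 : F) * x i = 0 := by
        have : -(x i) = x i := hi
        linear_combination (-1 : F) * this
      rcases mul_eq_zero.mp this with h' | h'
      · exact absurd h' h2
      · exact h'
    rw [Pi.single_eq_of_ne hne]
  · intro h
    exact absurd (Finset.mem_univ _) h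

end Cfsg.Agent.Lib.Helper39.SPW
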