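import Mathlib
import Cfsg.Agent.Lib.Helper39.SPW.Defs

/-!
# Project SPW, module [L-NORM] (helper39 hedge): normalising a projective representation
-/

set_option autoImplicit false

namespace Cfsg.Agent.Lib.Helper39.SPW

open Matrix Module

namespace LNorm

variable {S : Type*} [AddCommGroup S] [Module ℂ S] [FiniteDimensional ℂ S]

open Classical in
/-- the restriction of `T` to `U` (zero if `T` does not preserve `U`) -/
noncomputable def resU (U : Submodule ℂ S) (T : Module.End ℂ S) : Module.End ℂ U :=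
  if h : ∀ x ∈ U, T x ∈ U then T.restrict h else 0

theorem resU_eq (U : Submodule ℂ S) (T : Module.End ℂ S) (h : ∀ x ∈ U, T x ∈ U) :
    resU U T = T.restrict h := by
  unfold resU
  rw [dif_pos h]

theorem resU_mul (U : Submodule ℂ S) (T T' : Module.End ℂ S) (h : ∀ x ∈ U, T x ∈ U)
    (h' : ∀ x ∈ U, T' x ∈ U) : resU U (T * T') = resU U T * resU U T' := by
  have h'' : ∀ x ∈ U, (T * T') x ∈ U := fun x hx => h _ (h' x hx)
  rw [resU_eq U T h, resU_eq U T' h', resU_eq U _ h'']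
  apply LinearMap.ext
  intro x
  apply Subtype.ext
  rfl

theorem resU_smul (U : Submodule ℂ S) (c : ℂ) (T : Module.End ℂ S) (h : ∀ x ∈ U, T x ∈ U) :
    resU U (c • T) = c • resU U T := by
  have h'' : ∀ x ∈ U, (c • T) x ∈ U := fun x hx => U.smul_mem c (h x hx)
  rw [resU_eq U T h, resU_eq U _ h'']
  apply LinearMap.ext
  intro x
  apply Subtype.ext
  rfl

theorem det_resU_ne_zero (U : Submodule ℂ S) (T : Module.End ℂ S) (hT : IsUnit T)
    (h : ∀ x ∈ U, T x ∈ U) : LinearMap.det (resU U T) ≠ 0 := by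
  rw [resU_eq U T h]
  have hinj : Function.Injective T := by
    obtain ⟨u, rfl⟩ := hT
    intro x y hxy
    have := congrArg (fun z => ((u⁻¹ : (Module.End ℂ S)ˣ) : Module.End ℂ S) z) hxy
    simp only [← Module.End.mul_apply, Units.inv_mul, Module.End.one_apply] at this
    exact this
  have hinj' : Function.Injective (T.restrict h) := by
    intro x y hxy
    apply Subtype.ext
    apply hinj
    exact congrArg Subtype.val hxy
  have hunit : IsUnit (T.restrict h) := by
    rw [LinearMap.isUnit_iff_ker_eq_bot]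
    exact LinearMap.ker_eq_bot.mpr hinj'
  exact ((LinearMap.isUnit_iff_isUnit_det _).mp hunit).ne_zero

theorem det_ne_zero_of_isUnit (T : Module.End ℂ S) (hT : IsUnit T) : LinearMap.det T ≠ 0 :=
  ((LinearMap.isUnit_iff_isUnit_det _).mp hT).ne_zero

/-- the normalising quantity `det T / det (T|U)^2` -/
noncomputable def delta (U : Submodule ℂ S) (T : Module.End ℂ S) : ℂ :=
  LinearMap.det T * ((LinearMap.det (resU U T)) ^ 2)⁻¹

theorem delta_ne_zero (U : Submodule ℂ S) (T : Module.End ℂ S) (hT : IsUnit T)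
    (h : ∀ x ∈ U, T x ∈ U) : delta U T ≠ 0 := by
  unfold delta
  exact mul_ne_zero (det_ne_zero_of_isUnit T hT)
    (inv_ne_zero (pow_ne_zero 2 (det_resU_ne_zero U T hT h)))

theorem delta_mul (U : Submodule ℂ S) (T T' : Module.End ℂ S) (h : ∀ x ∈ U, T x ∈ U)
    (h' : ∀ x ∈ U, T' x ∈ U) : delta U (T * T') = delta U T * delta U T' := by
  unfold delta
  rw [resU_mul U T T' h h']
  have e1 : LinearMap.det (T * T') = LinearMap.det T * LinearMap.det T' := LinearMap.det_comp T T'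
  have e2 : LinearMap.det (resU U T * resU U T') =
      LinearMap.det (resU U T) * LinearMap.det (resU U T') := LinearMap.det_comp _ _
  rw [e1, e2, mul_pow, mul_inv]
  ring

theorem delta_smul (U : Submodule ℂ S) (hU : finrank ℂ S = 2 * finrank ℂ U + 1) (c : ℂ) (hc : c ≠ 0)
    (T : Module.End ℂ S) (h : ∀ x ∈ U, T x ∈ U) : delta U (c • T) = c * delta U T := by
  unfold delta
  rw [resU_smul U c T h, LinearMap.det_smul, LinearMap.det_smul, hU, mul_pow, mul_inv]
  have hcd : c ^ finrank ℂ U ≠ 0 := pow_ne_zero _ hc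
  field_simp
  ring

end LNorm

section L
variable {G : Type*} [Group G] {S : Type*} [AddCommGroup S] [Module ℂ S] [FiniteDimensional ℂ S]

open LNorm in
/-- **[L-NORM]** a projective representation by operators preserving a subspace `U` with
`dim S = 2 dim U + 1` lifts to a linear representation (normalise `det T / det (T|U)^2 = 1`) -/
theorem exists_hom_of_projective (U : Submodule ℂ S) (hU : finrank ℂ S = 2 * finrank ℂ U + 1)
    (I : G → Set (Module.End ℂ S))
    (hne : ∀ g, (I g).Nonempty)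
    (hunit : ∀ g, ∀ T ∈ I g, IsUnit T)
    (hinv : ∀ g, ∀ T ∈ I g, ∀ x ∈ U, T x ∈ U)
    (hmul : ∀ g h, ∀ T ∈ I g, ∀ T' ∈ I h, T * T' ∈ I (g * h))
    (hsc : ∀ g, ∀ T ∈ I g, ∀ T' ∈ I g, ∃ c : ℂ, T' = c • T)
    (hsmul : ∀ g, ∀ T ∈ I g, ∀ c : ℂ, c ≠ 0 → c • T ∈ I g) :
    ∃ ω : G →* Module.End ℂ S, ∀ g, ω g ∈ I g := by
  classical
  have hnt : Nontrivial S := by
    have : 0 < finrank ℂ S := by omega
    exact Module.finrank_pos_iff.mp this
  let T₀ : G → Module.End ℂ S := fun g => (hne g).some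
  have hT₀ : ∀ g, T₀ g ∈ I g := fun g => (hne g).some_mem
  let ω₀ : G → Module.End ℂ S := fun g => (delta U (T₀ g))⁻¹ • T₀ g
  have hd₀ : ∀ g, delta U (T₀ g) ≠ 0 := fun g =>
    delta_ne_zero U _ (hunit g _ (hT₀ g)) (hinv g _ (hT₀ g))
  have hω₀ : ∀ g, ω₀ g ∈ I g := fun g => hsmul g _ (hT₀ g) _ (inv_ne_zero (hd₀ g))
  have hδ : ∀ g, delta U (ω₀ g) = 1 := by
    intro g
    show delta U ((delta U (T₀ g))⁻¹ • T₀ g) = 1
    rw [delta_smul U hU _ (inv_ne_zero (hd₀ g)) _ (hinv g _ (hT₀ g)), inv_mul_cancel₀ (hd₀ g)]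
  have hmul' : ∀ g h, ω₀ (g * h) = ω₀ g * ω₀ h := by
    intro g h
    have hm := hmul g h _ (hω₀ g) _ (hω₀ h)
    obtain ⟨c, hc⟩ := hsc (g * h) _ (hω₀ (g * h)) _ hm
    have hc0 : c ≠ 0 := by
      intro h0
      rw [h0, zero_smul] at hc
      have hu := hunit _ _ hm
      rw [hc] at hu
      exact not_isUnit_zero hu
    have h1 : delta U (ω₀ g * ω₀ h) = 1 := by
      rw [delta_mul U _ _ (hinv g _ (hω₀ g)) (hinv h _ (hω₀ h)), hδ g, hδ h, one_mul]
    rw [hc, delta_smul U hU c hc0 _ (hinv _ _ (hω₀ (g * h))), hδ, mul_one] at h1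
    rw [hc, h1, one_smul]
  have hone : ω₀ 1 = 1 := by
    have h11 := hmul' 1 1
    rw [one_mul] at h11
    obtain ⟨u, hu⟩ := hunit 1 _ (hω₀ 1)
    have : (u : Module.End ℂ S) * 1 = (u : Module.End ℂ S) * (u : Module.End ℂ S) := by
      rw [mul_one, hu]; exact h11
    have := Units.mul_right_inj u |>.mp this
    rw [← hu]; exact this.symm
  exact ⟨⟨⟨ω₀, hone⟩, hmul'⟩, hω₀⟩

end L

end Cfsg.Agent.Lib.Helper39.SPW
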