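import Mathlib
import Cfsg.Agent.Lib.Helper39.SPW.Defs
import Cfsg.Agent.Lib.Helper39.SPW.WRel
import Cfsg.Agent.Lib.Helper61.SpwWLI
import Cfsg.Agent.Lib.Helper61.SpwWSum
import Cfsg.Agent.Lib.Helper95.SpwWSpan

/-!
# Project SPW, module [W-COMM] (helper39 hedge): the commutant of a Weil representation
-/

set_option autoImplicit false

namespace Cfsg.Agent.Lib.Helper39.SPW

open Matrix Module Cfsg.Agent.Lib.Helper5

variable {F : Type*} [Field F] [Fintype F] {n : ℕ}

namespace WComm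

/-- the permutation of `V` given by a symplectic matrix -/
def vEquiv (g : Matrix.symplecticGroup (Fin n) F) : (Fin n ⊕ Fin n → F) ≃ (Fin n ⊕ Fin n → F) where
  toFun v := (g : Matrix (Fin n ⊕ Fin n) (Fin n ⊕ Fin n) F) *ᵥ v
  invFun v := ((g⁻¹ : Matrix.symplecticGroup (Fin n) F) : Matrix (Fin n ⊕ Fin n) (Fin n ⊕ Fin n) F) *ᵥ v
  left_inv v := by
    have h : ((g⁻¹ : Matrix.symplecticGroup (Fin n) F) : Matrix (Fin n ⊕ Fin n) (Fin n ⊕ Fin n) F) *
        (g : Matrix (Fin n ⊕ Fin n) (Fin n ⊕ Fin n) F) = 1 := congrArg Subtype.val (inv_mul_cancel g)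
    show _ *ᵥ (_ *ᵥ v) = v
    rw [Matrix.mulVec_mulVec, h, Matrix.one_mulVec]
  right_inv v := by
    have h : (g : Matrix (Fin n ⊕ Fin n) (Fin n ⊕ Fin n) F) *
        ((g⁻¹ : Matrix.symplecticGroup (Fin n) F) : Matrix (Fin n ⊕ Fin n) (Fin n ⊕ Fin n) F) = 1 :=
      congrArg Subtype.val (mul_inv_cancel g)
    show _ *ᵥ (_ *ᵥ v) = v
    rw [Matrix.mulVec_mulVec, h, Matrix.one_mulVec]

theorem vEquiv_apply (g : Matrix.symplecticGroup (Fin n) F) (v : Fin n ⊕ Fin n → F) :
    vEquiv g v = (g : Matrix (Fin n ⊕ Fin n) (Fin n ⊕ Fin n) F) *ᵥ v := rfl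

end WComm

open WComm in
/-- **[W-COMM]** the commutant of a Weil representation is spanned by `1` and the parity operator -/
theorem commutant_weil (h2 : (2 : F) ≠ 0) (ψ : AddChar F ℂ) (hψ : ψ ≠ 1)
    (ω : Representation ℂ (Matrix.symplecticGroup (Fin n) F) (Fn n F)) (hω : ∀ g, ω g ∈ Intw ψ g)
    (X : Module.End ℂ (Fn n F)) (hX : ∀ g, ω g * X = X * ω g) :
    ∃ a b : ℂ, X = a • (1 : Module.End ℂ (Fn n F)) + b • par := by
  classical
  have hli := linearIndependent_weyl (n := n) h2 ψ hψ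
  have hspan := span_weyl (n := n) h2 ψ hψ
  have hXmem : X ∈ Submodule.span ℂ (Set.range (fun v : Fin n ⊕ Fin n → F => weyl ψ v)) := by
    rw [hspan]; exact Submodule.mem_top
  obtain ⟨c, hc⟩ := (Submodule.mem_span_range_iff_exists_fun ℂ).mp hXmem
  -- invariance of the coefficients
  have hinv : ∀ (g : Matrix.symplecticGroup (Fin n) F) (w : Fin n ⊕ Fin n → F),
      c ((vEquiv g).symm w) = c w := by
    intro g w
    obtain ⟨⟨u, hu⟩, hint⟩ := hω g
    have e1 : (∑ v, c v • weyl ψ (vEquiv g v)) * ω g = (∑ v, c v • weyl ψ v) * ω g := by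
      rw [hc, ← hX g, ← hc, Finset.mul_sum, Finset.sum_mul]
      refine Finset.sum_congr rfl fun v _ => ?_
      rw [mul_smul_comm, smul_mul_assoc, hint v, vEquiv_apply]
    have e2 : ∑ v, c v • weyl ψ (vEquiv g v) = ∑ v, c v • weyl ψ v := by
      rw [← hu] at e1
      exact (Units.mul_left_inj u).mp e1
    have e3 : ∑ v, c v • weyl ψ (vEquiv g v) = ∑ w, c ((vEquiv g).symm w) • weyl ψ w :=
      Fintype.sum_equiv (vEquiv g) _ _ (fun v => by rw [Equiv.symm_apply_apply])
    have e4 : ∑ w, (c ((vEquiv g).symm w) - c w) • weyl ψ w = 0 := by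
      have h5 : ∀ w : Fin n ⊕ Fin n → F, (c ((vEquiv g).symm w) - c w) • weyl ψ w =
          c ((vEquiv g).symm w) • weyl ψ w - c w • weyl ψ w := by
        intro w
        apply LinearMap.ext
        intro f
        funext x
        simp only [LinearMap.sub_apply, LinearMap.smul_apply, Pi.sub_apply, Pi.smul_apply, smul_eq_mul]
        ring
      rw [Finset.sum_congr rfl (fun w _ => h5 w), Finset.sum_sub_distrib, ← e3, e2, sub_self]
    have := Fintype.linearIndependent_iff.mp hli _ e4 w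
    exact sub_eq_zero.mp this
  -- the coefficient on the non-zero vectors
  have hconst : ∀ v w : Fin n ⊕ Fin n → F, v ≠ 0 → w ≠ 0 → c v = c w := by
    intro v w hv hw
    obtain ⟨g, hg⟩ := symplecticGroup_transitive hv hw
    have := hinv g w
    have hvw : (vEquiv g).symm w = v := by
      rw [Equiv.symm_apply_eq, vEquiv_apply, hg]
    rw [hvw] at this
    exact this
  let c₁ : ℂ := if h : ∃ v : Fin n ⊕ Fin n → F, v ≠ 0 then c h.choose else 0
  have hc₁ : ∀ v : Fin n ⊕ Fin n → F, v ≠ 0 → c v = c₁ := by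
    intro v hv
    have hex : ∃ v : Fin n ⊕ Fin n → F, v ≠ 0 := ⟨v, hv⟩
    show c v = if h : ∃ v : Fin n ⊕ Fin n → F, v ≠ 0 then c h.choose else 0
    rw [dif_pos hex]
    exact hconst v _ hv hex.choose_spec
  refine ⟨c 0 - c₁, c₁ * (Fintype.card F : ℂ) ^ n, ?_⟩
  have hsum := sum_weyl (n := n) h2 ψ hψ
  rw [← hc, mul_smul, ← hsum, Finset.smul_sum]
  have h1 : (c 0 - c₁) • (1 : Module.End ℂ (Fn n F)) =
      ∑ v : Fin n ⊕ Fin n → F, (if v = 0 then (c 0 - c₁) else 0) • weyl ψ v := by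
    rw [Finset.sum_eq_single (0 : Fin n ⊕ Fin n → F)]
    · rw [if_pos rfl, weyl_zero]
    · intro v _ hv
      rw [if_neg hv, zero_smul]
    · intro h
      exact absurd (Finset.mem_univ _) h
  rw [h1, ← Finset.sum_add_distrib]
  refine Finset.sum_congr rfl fun v _ => ?_
  rw [← add_smul]
  congr 1
  by_cases hv : v = 0
  · rw [if_pos hv, hv]; ring
  · rw [if_neg hv, hc₁ v hv]; ring

end Cfsg.Agent.Lib.Helper39.SPW
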