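import Mathlib
import Cfsg.Agent.Lib.Helper39.SPW.Defs
import Cfsg.Agent.Lib.Helper39.SPW.WRel
import Cfsg.Agent.Lib.Helper39.SPW.WTr
import Cfsg.Agent.Lib.Helper33.SpwWInt
import Cfsg.Agent.Lib.Helper95.SpwWSpan

/-!
# Project SPW, module [W-PAR] (helper39 hedge): intertwiners commute with the parity operator
-/

set_option autoImplicit false

namespace Cfsg.Agent.Lib.Helper39.SPW

open Matrix Module Cfsg.Agent.Lib.Helper5

variable {F : Type*} [Field F] [Fintype F] {n : ℕ}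

/-- **[W-PAR]** every intertwiner commutes with the parity operator -/
theorem commute_par_of_mem_Intw (h2 : (2 : F) ≠ 0) (ψ : AddChar F ℂ) (hψ : ψ ≠ 1)
    (g : Matrix.symplecticGroup (Fin n) F) (T : Module.End ℂ (Fn n F)) (hT : T ∈ Intw ψ g) :
    T * par = par * T := by
  classical
  obtain ⟨hu, hint⟩ := hT
  obtain ⟨u, rfl⟩ := hu
  set U : Module.End ℂ (Fn n F) := (u : Module.End ℂ (Fn n F)) with hU
  set Ui : Module.End ℂ (Fn n F) := ((u⁻¹ : (Module.End ℂ (Fn n F))ˣ) : Module.End ℂ (Fn n F)) with hUi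
  have hUUi : U * Ui = 1 := Units.mul_inv u
  have hUiU : Ui * U = 1 := Units.inv_mul u
  -- `Ui * weyl (g w) = weyl w * Ui`
  have hint' : ∀ w : Fin n ⊕ Fin n → F,
      Ui * weyl ψ ((g : Matrix (Fin n ⊕ Fin n) (Fin n ⊕ Fin n) F) *ᵥ w) = weyl ψ w * Ui := by
    intro w
    calc Ui * weyl ψ ((g : Matrix (Fin n ⊕ Fin n) (Fin n ⊕ Fin n) F) *ᵥ w)
        = Ui * (weyl ψ ((g : Matrix (Fin n ⊕ Fin n) (Fin n ⊕ Fin n) F) *ᵥ w) * U) * Ui := by
          rw [mul_assoc, mul_assoc, hUUi, mul_one]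
      _ = Ui * (U * weyl ψ w) * Ui := by rw [hint w]
      _ = weyl ψ w * Ui := by rw [← mul_assoc, hUiU, one_mul]
  set Z : Module.End ℂ (Fn n F) := U * par * Ui with hZ
  have hZw : ∀ v : Fin n ⊕ Fin n → F, Z * weyl ψ v = weyl ψ (-v) * Z := by
    intro v
    set w : Fin n ⊕ Fin n → F :=
      ((g⁻¹ : Matrix.symplecticGroup (Fin n) F) : Matrix (Fin n ⊕ Fin n) (Fin n ⊕ Fin n) F) *ᵥ v with hw
    have hgw : (g : Matrix (Fin n ⊕ Fin n) (Fin n ⊕ Fin n) F) *ᵥ w = v := by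
      rw [hw, Matrix.mulVec_mulVec]
      have : (g : Matrix (Fin n ⊕ Fin n) (Fin n ⊕ Fin n) F) *
          ((g⁻¹ : Matrix.symplecticGroup (Fin n) F) : Matrix (Fin n ⊕ Fin n) (Fin n ⊕ Fin n) F) = 1 := by
        have h := congrArg Subtype.val (mul_inv_cancel g)
        exact h
      rw [this, Matrix.one_mulVec]
    have hgnw : (g : Matrix (Fin n ⊕ Fin n) (Fin n ⊕ Fin n) F) *ᵥ (-w) = -v := by
      rw [Matrix.mulVec_neg, hgw]
    have e1 : Ui * weyl ψ v = weyl ψ w * Ui := by rw [← hgw]; exact hint' w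
    have e2 : U * weyl ψ (-w) = weyl ψ (-v) * U := by rw [← hgnw]; exact hint (-w)
    calc Z * weyl ψ v = U * par * (Ui * weyl ψ v) := by rw [hZ, mul_assoc]
      _ = U * (par * weyl ψ w) * Ui := by rw [e1]; simp only [mul_assoc]
      _ = (U * weyl ψ (-w)) * par * Ui := by rw [par_mul_weyl]; simp only [mul_assoc]
      _ = weyl ψ (-v) * Z := by rw [e2, hZ]; simp only [mul_assoc]
  have hcomm : ∀ v : Fin n ⊕ Fin n → F, (par * Z) * weyl ψ v = weyl ψ v * (par * Z) := by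
    intro v
    have := par_mul_weyl (n := n) ψ (-v)
    rw [neg_neg] at this
    rw [mul_assoc, hZw v, ← mul_assoc, this, mul_assoc]
  obtain ⟨c, hc⟩ := Cfsg.Agent.Lib.Helper33.SpwWInt.scalar_of_commute_weyl_of ψ (span_weyl h2 ψ hψ) _ hcomm
  have hZc : Z = c • par := by
    calc Z = par * (par * Z) := by rw [← mul_assoc, par_mul_par, one_mul]
      _ = c • par := by rw [hc, mul_smul_comm, mul_one]
  have htrZ : LinearMap.trace ℂ (Fn n F) Z = 1 := by
    rw [hZ, mul_assoc, LinearMap.trace_mul_comm, mul_assoc, hUiU, mul_one, trace_par h2]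
  have hc1 : c = 1 := by
    rw [hZc, map_smul, trace_par h2, smul_eq_mul, mul_one] at htrZ
    exact htrZ
  rw [hc1, one_smul] at hZc
  -- `U * par * Ui = par`
  calc U * par = U * par * (Ui * U) := by rw [hUiU, mul_one]
    _ = Z * U := by rw [hZ]; simp only [mul_assoc]
    _ = par * U := by rw [hZc]

end Cfsg.Agent.Lib.Helper39.SPW
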