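import Mathlib
import Cfsg.Agent.Lib.Helper39.SPW.Defs
import Cfsg.Agent.Lib.Helper39.SPW.WRel
import Cfsg.Agent.Lib.Helper39.SPW.WTr
import Cfsg.Agent.Lib.Helper39.SPW.LNorm
import Cfsg.Agent.Lib.Helper39.SPW.WPar
import Cfsg.Agent.Lib.Helper39.SPW.WComm
import Cfsg.Agent.Lib.Helper33.SpwWInt
import Cfsg.Agent.Lib.Helper61.SpwWLI
import Cfsg.Agent.Lib.Helper61.SpwWDim
import Cfsg.Agent.Lib.Helper95.SpwWSpan
import Cfsg.Agent.Lib.Helper50.SpwLIrr
import Cfsg.Agent.Lib.Helper50.SpwLFin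
import Cfsg.Agent.Lib.Helper24.SpwOCount
import Cfsg.Agent.Lib.Helper94.SPMD.Defs
import Cfsg.Agent.Lib.Helper62.SpmdRConj
import Cfsg.Agent.Lib.Helper62.SpmdTTriv
import Cfsg.Agent.Lib.Helper76.SpmdSNT
import Cfsg.Agent.Lib.Helper1.SpmdREx
import Cfsg.Agent.Lib.Helper44.SpmdQForm
import Cfsg.Agent.Lib.Helper44.SpmdQEqv
import Cfsg.Agent.Lib.Helper77.SpmdRDec

/-!
# Project SPW (helper39): assembly of S2347 from the modules
-/

set_option autoImplicit false

namespace Cfsg.Agent.Lib.Helper39.SPW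

open Matrix Module Cfsg.Agent.Lib.Helper5 Cfsg.Agent.Lib.Helper94.SPMD

/-- a non-trivial additive character of a finite field -/
theorem exists_addChar_ne_one {F : Type*} [Field F] [Fintype F] : ∃ ψ : AddChar F ℂ, ψ ≠ 1 := by
  classical
  by_contra hcon
  push Not at hcon
  have hsub : Subsingleton (AddChar F ℂ) := ⟨fun a b => by rw [hcon a, hcon b]⟩
  have hcard : Fintype.card (AddChar F ℂ) = Fintype.card F := AddChar.card_eq
  have : Fintype.card (AddChar F ℂ) ≤ 1 := Fintype.card_le_one_iff_subsingleton.mpr hsub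
  have hq2 : 2 ≤ Fintype.card F := Fintype.one_lt_card
  omega

theorem two_ne_zero_of_odd {F : Type*} [Field F] [Fintype F] (hodd : Odd (Fintype.card F)) :
    (2 : F) ≠ 0 := by
  intro h2
  have hchar : ringChar F ∣ 2 := by
    have : ((2 : ℕ) : F) = 0 := by exact_mod_cast h2
    exact (ringChar.spec F 2).mp this
  have h2' : ringChar F = 2 := by
    have hp := CharP.char_is_prime F (ringChar F)
    exact (Nat.prime_dvd_prime_iff_eq hp Nat.prime_two).mp hchar
  have h3 : Fintype.card F % 2 = 0 := FiniteField.even_card_iff_char_two.mp h2'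
  obtain ⟨r, hr⟩ := hodd
  omega

/-! ## Part A: the lower bound -/

theorem lower_bound {F : Type*} [Field F] [Fintype F] (n : ℕ) (hn : 2 ≤ n)
    (hodd : Odd (Fintype.card F)) :
    (∀ (k : ℕ) (ρ : Representation ℂ (Matrix.symplecticGroup (Fin n) F) (Fin k → ℂ)),
      ρ.IsIrreducible → 2 ≤ k → (Fintype.card F ^ n - 1) / 2 ≤ k) := by
  classical
  intro k ρ hirr hk
  have hq2 : 2 ≤ Fintype.card F := Fintype.one_lt_card
  have hex' : n = 2 → 3 ≤ Fintype.card F := by
    intro _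
    obtain ⟨r, hr⟩ := hodd
    omega
  obtain ⟨g, hg⟩ := exists_ne_one_of_irreducible ρ hirr hk
  obtain ⟨S₀, hS₀alt, hS₀⟩ := exists_alt_ne_one hn hex' ρ ⟨g, hg⟩
  obtain ⟨θ, hθ, a, ha, hθa⟩ := exists_wt_ne_bot ρ (uHom (n := n) (F := F)) (altAdd n F)
    ⟨S₀, hS₀alt, by rw [uHom_apply]; exact hS₀⟩
  obtain ⟨ψ, hψ1⟩ := exists_addChar_ne_one (F := F)
  have hψ : ψ.IsPrimitive := AddChar.IsPrimitive.of_ne_one hψ1
  obtain ⟨Q, hQ1, hQ2⟩ := exists_quadForm ψ hψ θ
  have hpol := polar_ne_zero ψ θ Q hQ2 ⟨a, ha, hθa⟩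
  have hbound := orbit_bound_odd (F := F) (n := n) rfl hodd (by omega) Q hpol
  -- the orbit of θ
  let ι := {θ' : AddChar ↥(symAdd n F) ℂ // ∃ A : GL (Fin n) F, θ' = actT A θ}
  have hfinι : Finite ι := inferInstance
  have h1 : Nat.card ι ≤ finrank ℂ (Fin k → ℂ) :=
    card_le_finrank_of_wt_ne_bot ρ (uHom (n := n) (F := F)) (fun i : ι => i.1)
      Subtype.val_injective (by
        rintro ⟨θ', A, rfl⟩
        exact wt_ne_bot_of_conj ρ uHom θ (dA A) (congrS A) (fun S => by
          rw [uHom_apply, uHom_apply]; exact dA_mul_uS A S) hθ)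
  rw [Module.finrank_fintype_fun_eq_card, Fintype.card_fin] at h1
  -- the orbit of Q is an image of the orbit of θ
  have hfinQ : Finite (orbQ Q) := by
    have : Finite (QuadraticForm F (Fin n → F)) :=
      Finite.of_injective (fun Q : QuadraticForm F (Fin n → F) => (Q : (Fin n → F) → F))
        DFunLike.coe_injective
    exact Finite.of_injective (fun x : orbQ Q => x.1) Subtype.val_injective
  let f : ι → orbQ Q := fun i =>
    ⟨Classical.choose (exists_quadForm ψ hψ i.1), by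
      obtain ⟨θ', A, rfl⟩ := i
      exact ⟨A, quadForm_equivariant ψ hψ θ A Q _ hQ1
        (Classical.choose_spec (exists_quadForm ψ hψ (actT A θ))).1⟩⟩
  have hfsurj : Function.Surjective f := by
    rintro ⟨Q', A, rfl⟩
    refine ⟨⟨actT A θ, A, rfl⟩, ?_⟩
    apply Subtype.ext
    exact quadForm_equivariant ψ hψ θ A Q _ hQ1
      (Classical.choose_spec (exists_quadForm ψ hψ (actT A θ))).1
  have h2 : Nat.card (orbQ Q) ≤ Nat.card ι := Nat.card_le_card_of_surjective f hfsurj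
  have h3 : Fintype.card F ^ n - 1 ≤ 2 * k :=
    hbound.trans (Nat.mul_le_mul_left _ (h2.trans h1))
  omega

/-! ## Part B: the Weil representation -/

section B
variable {F : Type*} [Field F] [Fintype F] {n : ℕ}

/-- **[B-REP]** the Weil representation exists -/
theorem exists_weil (hodd : Odd (Fintype.card F)) (ψ : AddChar F ℂ) (hψ : ψ ≠ 1) :
    ∃ ω : Representation ℂ (Matrix.symplecticGroup (Fin n) F) (Fn n F), ∀ g, ω g ∈ Intw ψ g := by
  classical
  have h2 : (2 : F) ≠ 0 := two_ne_zero_of_odd hodd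
  have hdim : finrank ℂ (Fn n F) = 2 * finrank ℂ (oddFn n F) + 1 := by
    rw [finrank_oddFn hodd, Module.finrank_fintype_fun_eq_card, Fintype.card_fun, Fintype.card_fin]
    have hoddn : Odd (Fintype.card F ^ n) := hodd.pow
    obtain ⟨r, hr⟩ := hoddn
    omega
  refine exists_hom_of_projective (oddFn n F) hdim (fun g => Intw ψ g)
    (fun g => Cfsg.Agent.Lib.Helper33.SpwWInt.Intw_nonempty_of h2 ψ
      (linearIndependent_weyl h2 ψ hψ) (span_weyl h2 ψ hψ) g) (fun g T hT => hT.1) ?_ ?_ ?_ ?_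
  · -- invariance of the odd functions
    intro g T hT x hx
    have hc := commute_par_of_mem_Intw h2 ψ hψ g T hT
    rw [mem_oddFn_iff_par] at hx ⊢
    have := congrArg (fun L : Module.End ℂ (Fn n F) => L x) hc
    simp only [Module.End.mul_apply] at this
    rw [← this, hx, map_neg]
  · -- products
    intro g h T hT T' hT'
    refine ⟨hT.1.mul hT'.1, fun v => ?_⟩
    have e1 := hT'.2 v
    have e2 := hT.2 ((h : Matrix (Fin n ⊕ Fin n) (Fin n ⊕ Fin n) F) *ᵥ v)
    have e3 : ((g * h : Matrix.symplecticGroup (Fin n) F) : Matrix (Fin n ⊕ Fin n) (Fin n ⊕ Fin n) F) *ᵥ v =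
        (g : Matrix (Fin n ⊕ Fin n) (Fin n ⊕ Fin n) F) *ᵥ
          ((h : Matrix (Fin n ⊕ Fin n) (Fin n ⊕ Fin n) F) *ᵥ v) := by
      rw [Matrix.mulVec_mulVec]; rfl
    rw [e3, mul_assoc, e1, ← mul_assoc, e2, mul_assoc]
  · -- uniqueness up to scalars
    intro g T hT T' hT'
    obtain ⟨u, rfl⟩ := hT.1
    have hcomm : ∀ v : Fin n ⊕ Fin n → F,
        (((u⁻¹ : (Module.End ℂ (Fn n F))ˣ) : Module.End ℂ (Fn n F)) * T') * weyl ψ v =
          weyl ψ v * (((u⁻¹ : (Module.End ℂ (Fn n F))ˣ) : Module.End ℂ (Fn n F)) * T') := by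
      intro v
      have e1 := hT'.2 v
      have e2 := hT.2 v
      -- u⁻¹ * weyl (g v) = weyl v * u⁻¹
      have e3 : ((u⁻¹ : (Module.End ℂ (Fn n F))ˣ) : Module.End ℂ (Fn n F)) *
          weyl ψ ((g : Matrix (Fin n ⊕ Fin n) (Fin n ⊕ Fin n) F) *ᵥ v) =
          weyl ψ v * ((u⁻¹ : (Module.End ℂ (Fn n F))ˣ) : Module.End ℂ (Fn n F)) := by
        calc ((u⁻¹ : (Module.End ℂ (Fn n F))ˣ) : Module.End ℂ (Fn n F)) *
              weyl ψ ((g : Matrix (Fin n ⊕ Fin n) (Fin n ⊕ Fin n) F) *ᵥ v)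
            = ((u⁻¹ : (Module.End ℂ (Fn n F))ˣ) : Module.End ℂ (Fn n F)) *
              (weyl ψ ((g : Matrix (Fin n ⊕ Fin n) (Fin n ⊕ Fin n) F) *ᵥ v) * (u : Module.End ℂ (Fn n F))) *
              ((u⁻¹ : (Module.End ℂ (Fn n F))ˣ) : Module.End ℂ (Fn n F)) := by
              rw [mul_assoc, mul_assoc, Units.mul_inv, mul_one]
          _ = ((u⁻¹ : (Module.End ℂ (Fn n F))ˣ) : Module.End ℂ (Fn n F)) *
              ((u : Module.End ℂ (Fn n F)) * weyl ψ v) *
              ((u⁻¹ : (Module.End ℂ (Fn n F))ˣ) : Module.End ℂ (Fn n F)) := by rw [e2]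
          _ = weyl ψ v * ((u⁻¹ : (Module.End ℂ (Fn n F))ˣ) : Module.End ℂ (Fn n F)) := by
              rw [← mul_assoc, Units.inv_mul, one_mul]
      rw [mul_assoc, e1, ← mul_assoc, e3, mul_assoc]
    obtain ⟨c, hc⟩ := Cfsg.Agent.Lib.Helper33.SpwWInt.scalar_of_commute_weyl_of ψ (span_weyl h2 ψ hψ) _ hcomm
    refine ⟨c, ?_⟩
    calc T' = (u : Module.End ℂ (Fn n F)) *
          (((u⁻¹ : (Module.End ℂ (Fn n F))ˣ) : Module.End ℂ (Fn n F)) * T') := by
          rw [← mul_assoc, Units.mul_inv, one_mul]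
      _ = c • (u : Module.End ℂ (Fn n F)) := by rw [hc, mul_smul_comm, mul_one]
  · -- scalar multiples
    intro g T hT c hc
    refine ⟨?_, fun v => ?_⟩
    · have hcu : IsUnit (c • (1 : Module.End ℂ (Fn n F))) := by
        have : IsUnit (algebraMap ℂ (Module.End ℂ (Fn n F)) c) := (IsUnit.mk0 c hc).map _
        rwa [Algebra.algebraMap_eq_smul_one] at this
      have := hcu.mul hT.1
      rwa [smul_mul_assoc, one_mul] at this
    · rw [smul_mul_assoc, hT.2 v, mul_smul_comm]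

/-- **[B-FINAL]** an irreducible representation of degree `(q^n - 1)/2` -/
theorem exists_weil_irreducible (hodd : Odd (Fintype.card F)) (hn : 1 ≤ n) :
    ∃ ρ : Representation ℂ (Matrix.symplecticGroup (Fin n) F)
      (Fin ((Fintype.card F ^ n - 1) / 2) → ℂ), ρ.IsIrreducible := by
  classical
  have h2 : (2 : F) ≠ 0 := two_ne_zero_of_odd hodd
  obtain ⟨ψ, hψ⟩ := exists_addChar_ne_one (F := F)
  obtain ⟨ω, hω⟩ := exists_weil (n := n) hodd ψ hψ
  -- the subrepresentation of odd functions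
  let σ : Subrepresentation ω :=
    { toSubmodule := oddFn n F
      apply_mem_toSubmodule := by
        intro g x hx
        have hc := commute_par_of_mem_Intw h2 ψ hψ g (ω g) (hω g)
        rw [mem_oddFn_iff_par] at hx ⊢
        have := congrArg (fun L : Module.End ℂ (Fn n F) => L x) hc
        simp only [Module.End.mul_apply] at this
        rw [← this, hx, map_neg] }
  have hdim : finrank ℂ (oddFn n F) = (Fintype.card F ^ n - 1) / 2 := finrank_oddFn hodd
  have hσ0 : σ.toSubmodule ≠ ⊥ := by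
    intro h0
    have h00 : finrank ℂ (oddFn n F) = 0 := by
      show finrank ℂ σ.toSubmodule = 0
      rw [h0]; exact finrank_bot ℂ _
    rw [hdim] at h00
    have hq3 : 3 ≤ Fintype.card F := by
      have hq2 : 2 ≤ Fintype.card F := Fintype.one_lt_card
      obtain ⟨r, hr⟩ := hodd
      omega
    have : 3 ≤ Fintype.card F ^ n := by
      calc 3 ≤ Fintype.card F ^ 1 := by rw [pow_one]; exact hq3
        _ ≤ Fintype.card F ^ n := Nat.pow_le_pow_right (by omega) hn
    omega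
  have hirr : σ.toRepresentation.IsIrreducible := by
    refine isIrreducible_of_commutant ω par (fun X hX => commutant_weil h2 ψ hψ ω hω X hX) σ hσ0 ?_ ?_
    · intro x hx
      exact (mem_oddFn_iff_par x).mp hx
    · refine ⟨fun _ => 1, ?_, ?_⟩
      · intro h0
        have := congrFun h0 0
        simp at this
      · funext x
        rfl
  exact exists_irreducible_fin σ.toRepresentation hirr _ hdim

end B

/-! ## S2347 -/

theorem S2347_main {F : Type*} [Field F] [Fintype F] (n : ℕ) (hn : 2 ≤ n)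
    (hodd : Odd (Fintype.card F)) :
    (∀ (k : ℕ) (ρ : Representation ℂ (Matrix.symplecticGroup (Fin n) F) (Fin k → ℂ)),
      ρ.IsIrreducible → 2 ≤ k → (Fintype.card F ^ n - 1) / 2 ≤ k) ∧
    (∃ ρ : Representation ℂ (Matrix.symplecticGroup (Fin n) F)
      (Fin ((Fintype.card F ^ n - 1) / 2) → ℂ), ρ.IsIrreducible) :=
  ⟨lower_bound n hn hodd, exists_weil_irreducible hodd (by omega)⟩

end Cfsg.Agent.Lib.Helper39.SPW
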