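import Mathlib
import Cfsg.Agent.Lib.Helper39.SPW.Defs
import Cfsg.Agent.Lib.Helper39.SPW.WRel
import Cfsg.Agent.Lib.Helper54.SkolemNoether

/-!
# Project SPW, module [W-INT] (helper39 hedge), `_of` form: intertwiners exist (Skolem–Noether)
-/

set_option autoImplicit false

namespace Cfsg.Agent.Lib.Helper39.SPW

open Matrix Module Cfsg.Agent.Lib.Helper5

variable {F : Type*} [Field F] [Fintype F] {n : ℕ}

/-- **[W-INT]**, from [W-LI] and [W-SPAN] -/
theorem Intw_nonempty_of (h2 : (2 : F) ≠ 0) (ψ : AddChar F ℂ)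
    (hli : LinearIndependent ℂ (fun v : Fin n ⊕ Fin n → F => weyl ψ v))
    (hspan : Submodule.span ℂ (Set.range (fun v : Fin n ⊕ Fin n → F => weyl ψ v)) = ⊤)
    (g : Matrix.symplecticGroup (Fin n) F) : (Intw ψ g).Nonempty := by
  classical
  let b : Basis (Fin n ⊕ Fin n → F) ℂ (Module.End ℂ (Fn n F)) := Basis.mk hli (by rw [hspan])
  have hb : ∀ v, b v = weyl ψ v := fun v => Basis.mk_apply hli _ v
  let gv : (Fin n ⊕ Fin n → F) → (Fin n ⊕ Fin n → F) :=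
    fun v => (g : Matrix (Fin n ⊕ Fin n) (Fin n ⊕ Fin n) F) *ᵥ v
  let φ₀ : Module.End ℂ (Fn n F) →ₗ[ℂ] Module.End ℂ (Fn n F) := b.constr ℂ (fun v => weyl ψ (gv v))
  have hφ₀ : ∀ v, φ₀ (weyl ψ v) = weyl ψ (gv v) := by
    intro v
    rw [← hb v]
    exact b.constr_basis ℂ _ v
  have hform : ∀ v w, sympForm (Fin n) F (gv v) (gv w) = sympForm (Fin n) F v w :=
    fun v w => (mem_symplecticGroup_iff_form.mp g.2) v w
  have hone : φ₀ 1 = 1 := by
    have h0 : gv 0 = 0 := Matrix.mulVec_zero _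
    rw [← weyl_zero (n := n) ψ, hφ₀, h0]
  have hbil : (LinearMap.mul ℂ (Module.End ℂ (Fn n F))).compr₂ φ₀ =
      (LinearMap.mul ℂ (Module.End ℂ (Fn n F))).compl₁₂ φ₀ φ₀ := by
    refine b.ext fun v => b.ext fun w => ?_
    simp only [LinearMap.compr₂_apply, LinearMap.compl₁₂_apply, LinearMap.mul_apply', hb]
    rw [weyl_mul h2, map_smul, hφ₀, hφ₀, hφ₀, weyl_mul h2, hform]
    have : gv (v + w) = gv v + gv w := Matrix.mulVec_add _ v w
    rw [this]
  have hmul : ∀ x y, φ₀ (x * y) = φ₀ x * φ₀ y := by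
    intro x y
    have := congrArg (fun B => B x y) hbil
    simpa only [LinearMap.compr₂_apply, LinearMap.compl₁₂_apply, LinearMap.mul_apply'] using this
  let φ : Module.End ℂ (Fn n F) →ₐ[ℂ] Module.End ℂ (Fn n F) := AlgHom.ofLinearMap φ₀ hone hmul
  have hφ : ∀ X, φ X = φ₀ X := fun X => rfl
  let e : Module.End ℂ (Fn n F) ≃ₐ[ℂ] Matrix (Fin n → F) (Fin n → F) ℂ := LinearMap.toMatrixAlgEquiv'
  let φ' : Matrix (Fin n → F) (Fin n → F) ℂ →ₐ[ℂ] Matrix (Fin n → F) (Fin n → F) ℂ :=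
    ((e : Module.End ℂ (Fn n F) →ₐ[ℂ] Matrix (Fin n → F) (Fin n → F) ℂ).comp φ).comp
      (e.symm : Matrix (Fin n → F) (Fin n → F) ℂ →ₐ[ℂ] Module.End ℂ (Fn n F))
  obtain ⟨T, hT⟩ := Cfsg.Agent.Lib.Helper54.SkolemNoether.exists_conj_of_algHom φ'
  let Tl : Module.End ℂ (Fn n F) := e.symm (T : Matrix (Fin n → F) (Fin n → F) ℂ)
  let Tli : Module.End ℂ (Fn n F) :=
    e.symm ((T⁻¹ : (Matrix (Fin n → F) (Fin n → F) ℂ)ˣ) : Matrix (Fin n → F) (Fin n → F) ℂ)
  have h1 : Tl * Tli = 1 := by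
    show e.symm _ * e.symm _ = 1
    rw [← map_mul, Units.mul_inv, map_one]
  have h1' : Tli * Tl = 1 := by
    show e.symm _ * e.symm _ = 1
    rw [← map_mul, Units.inv_mul, map_one]
  have hconj : ∀ X : Module.End ℂ (Fn n F), φ X = Tl * X * Tli := by
    intro X
    have := hT (e X)
    have h3 : φ' (e X) = e (φ X) := by
      show e (φ (e.symm (e X))) = e (φ X)
      rw [AlgEquiv.symm_apply_apply]
    rw [h3] at this
    have h4 := congrArg e.symm this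
    rw [AlgEquiv.symm_apply_apply, map_mul, map_mul, AlgEquiv.symm_apply_apply] at h4
    exact h4
  refine ⟨Tl, ⟨⟨Tl, Tli, h1, h1'⟩, rfl⟩, fun v => ?_⟩
  have := hconj (weyl ψ v)
  rw [hφ, hφ₀] at this
  show Tl * weyl ψ v = weyl ψ (gv v) * Tl
  rw [this, mul_assoc, h1', mul_one]

end Cfsg.Agent.Lib.Helper39.SPW
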